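import Cfsg.Agent.Lib.Blocks.PPrimePCoreSetting
import Cfsg.Agent.Lib.Blocks.PrincipalColumn
import Cfsg.Agent.Lib.Invol.Dihedral
import Cfsg.Prelude.Def_Transfer

/-!
# A weakly closed central 2-subgroup: fusion and products with the conjugates
-/

set_option autoImplicit false

namespace CfsgLib.WeakCentre

open Cfsg

variable {G : Type*} [Group G]

theorem mem_conj_iff {W : Subgroup G} {g x : G} :
    x ∈ W.map (MulAut.conj g).toMonoidHom ↔ g⁻¹ * x * g ∈ W := by
  rw [Subgroup.mem_map_equiv]; simp [mul_assoc]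

theorem map_map_conj (W : Subgroup G) (g h : G) :
    (W.map (MulAut.conj g).toMonoidHom).map (MulAut.conj h).toMonoidHom =
      W.map (MulAut.conj (h * g)).toMonoidHom := by
  ext x; simp [mem_conj_iff, mul_assoc]

theorem map_conj_le_iff {W V : Subgroup G} (g : G) :
    W.map (MulAut.conj g).toMonoidHom ≤ V ↔ ∀ w ∈ W, g * w * g⁻¹ ∈ V := by
  simp [SetLike.le_def, Subgroup.mem_map]

/-- `W` is central in the Sylow 2-subgroup `T` and weakly closed in it. -/
structure Setting (T : Sylow 2 G) (W : Subgroup G) : Prop where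
  cen : W ≤ (T : Subgroup G) ⊓ Subgroup.centralizer ((T : Subgroup G) : Set G)
  wc : IsWeaklyClosed W (T : Subgroup G)

variable [Finite G] {T : Sylow 2 G} {W : Subgroup G}

theorem Setting.comm (S : Setting T W) {w u : G} (hw : w ∈ W) (hu : u ∈ (T : Subgroup G)) :
    u * w = w * u := Subgroup.mem_centralizer_iff.mp (S.cen hw).2 u hu

theorem Setting.le (S : Setting T W) : W ≤ (T : Subgroup G) := S.cen.trans inf_le_left

/-- Two conjugates of `W` in one 2-subgroup coincide. -/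
theorem Setting.conj_unique (S : Setting T W) {P : Subgroup G} (hP : IsPGroup 2 P) {g h : G}
    (hg : W.map (MulAut.conj g).toMonoidHom ≤ P) (hh : W.map (MulAut.conj h).toMonoidHom ≤ P) :
    W.map (MulAut.conj g).toMonoidHom = W.map (MulAut.conj h).toMonoidHom := by
  obtain ⟨R, hR⟩ := hP.exists_le_sylow
  obtain ⟨e, he⟩ := MulAction.exists_smul_eq G R T
  have hcoe : ((e • R : Sylow 2 G) : Subgroup G) = (R : Subgroup G).map (MulAut.conj e).toMonoidHom :=
    Sylow.coe_subgroup_smul (g := e) (P := R)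
  rw [he] at hcoe
  have key : ∀ k : G, W.map (MulAut.conj k).toMonoidHom ≤ P →
      W.map (MulAut.conj (e * k)).toMonoidHom = W := fun k hk => by
    refine S.wc.2 _ ?_
    rw [hcoe, ← map_map_conj]
    exact Subgroup.map_mono (hk.trans hR)
  have := (key g hg).trans (key h hh).symm
  rw [← map_map_conj, ← map_map_conj] at this
  exact Subgroup.map_injective (MulAut.conj e).injective this

/-- If `W` and a conjugate centralize `y`, the centralizer of `y` conjugates one to the other. -/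
theorem Setting.move (S : Setting T W) {y g : G} (hy : ∀ w ∈ W, Commute w y)
    (hgy : ∀ w ∈ W, Commute (g * w * g⁻¹) y) :
    ∃ c : G, Commute c y ∧ W.map (MulAut.conj (c * g)).toMonoidHom = W := by
  classical
  set C := Subgroup.centralizer ({y} : Set G) with hC
  have hWC : W ≤ C := fun w hw => Subgroup.mem_centralizer_singleton_iff.mpr (hy w hw).eq
  have hgC : W.map (MulAut.conj g).toMonoidHom ≤ C := (map_conj_le_iff g).mpr fun w hw =>
    Subgroup.mem_centralizer_singleton_iff.mpr (hgy w hw).eq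
  have hWp : IsPGroup 2 W := T.isPGroup'.to_le S.le
  obtain ⟨S1, h1⟩ := (hWp.comap_of_injective C.subtype C.subtype_injective).exists_le_sylow
  obtain ⟨S2, h2⟩ :=
    ((hWp.map (MulAut.conj g).toMonoidHom).comap_of_injective C.subtype C.subtype_injective).exists_le_sylow
  obtain ⟨c, hc⟩ := MulAction.exists_smul_eq C S2 S1
  have hP : IsPGroup 2 ((S1 : Subgroup C).map C.subtype) := S1.isPGroup'.map _
  have e1 : W.map (MulAut.conj (1 : G)).toMonoidHom ≤ (S1 : Subgroup C).map C.subtype :=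
    (map_conj_le_iff 1).mpr fun w hw => ⟨⟨w, hWC hw⟩, h1 (by exact hw), by simp⟩
  have e2 : W.map (MulAut.conj ((c : G) * g)).toMonoidHom ≤ (S1 : Subgroup C).map C.subtype := by
    refine (map_conj_le_iff _).mpr fun w hw => ?_
    have hm : g * w * g⁻¹ ∈ W.map (MulAut.conj g).toMonoidHom := ⟨w, hw, rfl⟩
    refine ⟨c * ⟨g * w * g⁻¹, hgC hm⟩ * c⁻¹, ?_, by simp [mul_assoc]⟩
    have hcoe : ((c • S2 : Sylow 2 C) : Subgroup C) =
        (S2 : Subgroup C).map (MulAut.conj c).toMonoidHom := Sylow.coe_subgroup_smul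
    rw [hc] at hcoe
    rw [SetLike.mem_coe, hcoe]
    exact ⟨⟨g * w * g⁻¹, hgC hm⟩, h2 (by exact hm), rfl⟩
  refine ⟨c, (Subgroup.mem_centralizer_singleton_iff.mp c.2), ?_⟩
  rw [S.conj_unique hP e2 e1]
  ext x; simp [mem_conj_iff]

/-- `W` is strongly closed. -/
theorem Setting.strong (S : Setting T W) {z g : G} (hz : z ∈ W)
    (hg : g * z * g⁻¹ ∈ (T : Subgroup G)) : g * z * g⁻¹ ∈ W := by
  obtain ⟨c, hc, e⟩ := S.move (y := g * z * g⁻¹) (g := g)
    (fun w hw => (S.comm hw hg).symm)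
    (fun w hw => by
      have : Commute w z := (S.comm hz (S.le hw))
      exact (Commute.conj_iff g).mpr this)
  have h : c * g * z * (c * g)⁻¹ ∈ W.map (MulAut.conj (c * g)).toMonoidHom := ⟨z, hz, rfl⟩
  rw [e, show c * g * z * (c * g)⁻¹ = c * (g * z * g⁻¹) * c⁻¹ by group, hc.eq] at h
  simpa [mul_assoc] using h

/-- The coset hypothesis. -/
def CosetCore (W : Subgroup G) (t : G) : Prop :=
  ∀ w ∈ W, orderOf (w * t) = 2 →
    W.subgroupOf (Subgroup.centralizer ({w * t} : Set G)) ≤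
      pPrimePCore 2 ↥(Subgroup.centralizer ({w * t} : Set G))

/-- In the principal block, a product of a conjugate of `z` and a coset involution takes the value
of a coset involution. -/
theorem Setting.value_product (S : Setting T W) [Fintype G] {t : G} (htT : t ∈ (T : Subgroup G))
    (htW : t ∉ W) (hcos : CosetCore W t) {z : G} (hz : z ∈ W) (hz2 : orderOf z = 2)
    {M : Ideal AlgInt} (hM : IsPModular 2 M) {w₀ : G} (hw₀ : w₀ ∈ W)
    (ha2 : orderOf (w₀ * t) = 2) (g : G) :
    ∃ w ∈ W, orderOf (w * t) = 2 ∧ ∀ χ : IrrCharacter G, χ ∈ principalBlock M G →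
      (χ : G → ℂ) (g * z * g⁻¹ * (w₀ * t)) = (χ : G → ℂ) (w * t) := by
  classical
  have : Fact (Nat.Prime 2) := ⟨Nat.prime_two⟩
  set a := w₀ * t with ha
  have haT : a ∈ (T : Subgroup G) := mul_mem (S.le hw₀) htT
  have haW : a ∉ W := fun h => htW (by simpa [ha] using mul_mem (inv_mem hw₀) h)
  set x := g * z * g⁻¹ with hx
  have hx2 : orderOf x = 2 := Invol.conj_orderOf_two hz2 g
  obtain ⟨d, hd⟩ : ∃ d, d = x * a := ⟨_, rfl⟩
  obtain ⟨k, b, hb, hord⟩ : ∃ k b, ¬ 2 ∣ b ∧ orderOf d = 2 ^ k * b :=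
    Nat.exists_eq_pow_mul_and_not_dvd (orderOf_pos d).ne' 2 (by norm_num)
  obtain ⟨j, hj⟩ : Odd b := Nat.odd_iff.mpr (by omega)
  -- the conjugate `x'`
  set x' := d ^ (j : ℤ) * x * (d ^ (j : ℤ))⁻¹ with hx'
  have hx'2 : orderOf x' = 2 := Invol.conj_orderOf_two hx2 _
  have hx'e : x' = x * d ^ (-(2 * (j : ℤ))) := by rw [hx', hd]; exact Invol.conj_left hx2 ha2 _
  have hxd : ∀ i : ℤ, d ^ i * x = x * d ^ (-i) := fun i => by rw [hd]; exact Invol.zpow_mul_left hx2 ha2 i
  have ha_eq : a = x * d := by rw [hd]; exact Invol.right_eq hx2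
  have hv : x' * a = d ^ (b : ℤ) := by
    rw [hx'e, ha_eq, mul_assoc, ← mul_assoc (d ^ _) x d, hxd, ← mul_assoc, ← mul_assoc,
      Invol.mul_self_of_orderOf_two hx2, one_mul, ← zpow_add_one, hj]
    congr 1
    push_cast
    ring
  have hv2k : (x' * a) ^ 2 ^ k = 1 := by
    rw [hv, zpow_natCast, ← pow_mul, mul_comm b, ← hord, pow_orderOf_eq_one]
  -- a Sylow subgroup containing both
  have hD : IsPGroup 2 (Subgroup.closure ({x', a} : Set G)) := by
    rintro ⟨e, he⟩
    obtain ⟨i, rfl | rfl⟩ := (Invol.mem_closure_pair_iff hx'2 ha2).mp he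
    · refine ⟨k, Subtype.ext ?_⟩
      simp only [SubgroupClass.coe_pow, Subgroup.coe_one]
      rw [← zpow_natCast, ← zpow_mul, mul_comm, zpow_mul, zpow_natCast, hv2k, one_zpow]
    · refine ⟨1, Subtype.ext ?_⟩
      simp only [SubgroupClass.coe_pow, Subgroup.coe_one, pow_one]
      rw [pow_two, Invol.left_mul_zpow_mul_self hx'2 ha2, sub_self, zpow_zero]
  obtain ⟨R, hR⟩ := hD.exists_le_sylow
  obtain ⟨h, rfl⟩ := MulAction.exists_smul_eq G T R
  have hcoe : ((h • T : Sylow 2 G) : Subgroup G) = (T : Subgroup G).map (MulAut.conj h).toMonoidHom :=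
    Sylow.coe_subgroup_smul
  rw [hcoe] at hR
  have hx'T : h⁻¹ * x' * h ∈ (T : Subgroup G) :=
    mem_conj_iff.mp (hR (Subgroup.subset_closure (by simp)))
  have haT' : h⁻¹ * a * h ∈ (T : Subgroup G) :=
    mem_conj_iff.mp (hR (Subgroup.subset_closure (by simp)))
  have hx'W : h⁻¹ * x' * h ∈ W := by
    have e : h⁻¹ * x' * h = (h⁻¹ * d ^ (j : ℤ) * g) * z * (h⁻¹ * d ^ (j : ℤ) * g)⁻¹ := by
      rw [hx', hx]; group
    rw [e] at hx'T ⊢
    exact S.strong hz hx'T
  have hcomm : Commute x' a := by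
    have := S.comm hx'W haT'
    calc x' * a = h * ((h⁻¹ * x' * h) * (h⁻¹ * a * h)) * h⁻¹ := by group
      _ = h * ((h⁻¹ * a * h) * (h⁻¹ * x' * h)) * h⁻¹ := by rw [this]
      _ = a * x' := by group
  obtain ⟨c, hca, hcW⟩ := S.move (y := a) (g := h) (fun w hw => (S.comm hw haT).symm)
    (fun w hw => by
      have h0 : Commute w (h⁻¹ * a * h) := (S.comm hw haT').symm
      have := (Commute.conj_iff h).mpr h0
      simpa [mul_assoc] using this)
  set w := c * x' * c⁻¹ with hw
  have hwW : w ∈ W := by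
    rw [← hcW, mem_conj_iff]
    rw [show (c * h)⁻¹ * w * (c * h) = h⁻¹ * x' * h by rw [hw]; group]
    exact hx'W
  have hcv : c * (x' * a) * c⁻¹ = w * a := by
    rw [hw, mul_assoc, mul_assoc, show a * c⁻¹ = c⁻¹ * a from ((hca.inv_left).symm).eq]
    group
  have hwa2 : orderOf (w * a) = 2 := by
    refine Invol.orderOf_two_of_mul_self ?_ fun h1 => haW ?_
    · rw [← hcv, conj_mul, show x' * a * (x' * a) = x' * x' * (a * a) by
        rw [mul_assoc, ← mul_assoc a, ← hcomm.eq]; group,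
        Invol.mul_self_of_orderOf_two hx'2, Invol.mul_self_of_orderOf_two ha2]
      simp
    · rw [eq_inv_of_mul_eq_one_right h1]
      exact inv_mem hwW
  have hA : w * w₀ * t = w * a := by rw [ha, mul_assoc]
  refine ⟨w * w₀, mul_mem hwW hw₀, by rw [hA, hwa2], fun χ hχ => ?_⟩
  -- the odd part
  set r := d ^ (-(2 * (j : ℤ))) with hr
  have hdvr : x * a = x' * a * r := by
    rw [hv, hr, ← zpow_add, ← hd, hj]
    conv_lhs => rw [← zpow_one d]
    congr 1
    push_cast
    ring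
  have hrb : r ^ b = 1 := by
    have h2b : d ^ (2 * (b : ℤ)) = 1 := by
      rw [show (2 * (b : ℤ)) = b + b by ring, zpow_add, ← hv,
        show x' * a * (x' * a) = x' * x' * (a * a) by
          rw [mul_assoc, ← mul_assoc a, ← hcomm.eq]; group,
        Invol.mul_self_of_orderOf_two hx'2, Invol.mul_self_of_orderOf_two ha2, one_mul]
    rw [hr, ← zpow_natCast, ← zpow_mul,
      show -(2 * (j : ℤ)) * b = 2 * b * (-j) by ring, zpow_mul, h2b, one_zpow]
  have hinv : x' * r * x'⁻¹ = r⁻¹ := by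
    have h1 : x * r * x⁻¹ = r⁻¹ := by
      rw [hr, Invol.inv_of_orderOf_two hx2, mul_assoc, hxd, ← mul_assoc,
        Invol.mul_self_of_orderOf_two hx2, one_mul, zpow_neg d]
    rw [hx'e, hr] at *
    calc x * d ^ (-(2 * (j : ℤ))) * d ^ (-(2 * (j : ℤ))) * (x * d ^ (-(2 * (j : ℤ))))⁻¹
        = x * d ^ (-(2 * (j : ℤ))) * x⁻¹ := by group
      _ = _ := h1
  have hrv : Commute (x' * a) r := by
    rw [hv, hr]; exact Commute.zpow_zpow_self d _ _
  -- move to the centralizer of `w * a`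
  set C := Subgroup.centralizer ({w * w₀ * t} : Set G) with hC
  have hrC : c * r * c⁻¹ ∈ C := by
    rw [hC, Subgroup.mem_centralizer_singleton_iff, hA, ← hcv]
    exact ((Commute.conj_iff c).mpr hrv).symm.eq
  have hwC : w ∈ C := by
    rw [hC, Subgroup.mem_centralizer_singleton_iff]
    exact (S.comm hwW (mul_mem (mul_mem (S.le hwW) (S.le hw₀)) htT)).symm
  haveI : Fintype C := Fintype.ofFinite _
  set r' : C := ⟨c * r * c⁻¹, hrC⟩ with hr'
  set w' : C := ⟨w, hwC⟩ with hw'
  have hwL : w' ∈ pPrimePCore 2 C := hcos _ (mul_mem hwW hw₀) (by rw [hA, hwa2]) hwW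
  have hinv' : w' * r' * w'⁻¹ = r'⁻¹ := by
    apply Subtype.ext
    simp only [hr', hw', Subgroup.coe_mul, Subgroup.coe_inv]
    simp only [hw, conj_inv, conj_mul, hinv]
  have hr'b : r' ^ b = 1 := by
    apply Subtype.ext
    simp only [hr', SubgroupClass.coe_pow, Subgroup.coe_one, conj_pow, hrb]
    group
  have hord' : ¬ 2 ∣ orderOf r' := fun h2 => hb (h2.trans (orderOf_dvd_of_pow_eq_one hr'b))
  have hmem : r' ∈ pPrimeCore 2 C := by
    have := CfsgLib.Blocks.pPrimePCore_normal (p := 2) (G := C)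
    have hsq : r'⁻¹ * r'⁻¹ ∈ pPrimePCore 2 C := by
      have := mul_mem hwL (Subgroup.Normal.conj_mem inferInstance _ (inv_mem hwL) r')
      rwa [show w' * (r' * w'⁻¹ * r'⁻¹) = w' * r' * w'⁻¹ * r'⁻¹ by group, hinv'] at this
    obtain ⟨n, hn⟩ := CfsgLib.Blocks.pow_mem_pPrimeCore 2 hsq
    have hpow : r' ^ 2 ^ (n + 1) ∈ pPrimeCore 2 C := by
      have := inv_mem hn
      rwa [← inv_pow, mul_inv_rev, inv_inv, ← pow_two, ← pow_mul, ← pow_succ'] at this
    have hcop : (2 ^ (n + 1)).Coprime (orderOf r') :=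
      (Nat.prime_two.coprime_iff_not_dvd.mpr hord').pow_left _
    obtain ⟨m, hm⟩ := exists_pow_eq_self_of_coprime hcop
    rw [← hm]
    exact pow_mem hpow m
  have hval := CfsgLib.Blocks.value_mul_pPrimeCore hM (x := w * w₀ * t)
    ⟨1, by rw [hA, hwa2, pow_one]⟩ hχ (y := (1 : C)) (v := r')
    (by rw [orderOf_one]; norm_num) (by rwa [one_mul]) hmem
  rw [one_mul, Subgroup.coe_one, mul_one] at hval
  refine (CfsgLib.Char.eq_of_isConj (CfsgLib.Blocks.irr_classFunction χ) ?_).trans hval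
  refine isConj_iff.mpr ⟨c, ?_⟩
  simp only [hr']
  rw [hdvr, ← conj_mul, hcv, ← hA]

end CfsgLib.WeakCentre
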